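import Mathlib.Order.RelSeries
import Mathlib.Order.Preorder.Chain
import Mathlib.Order.BoundedOrder.Basic
import Mathlib.Data.Fintype.Sort
import Mathlib.Order.Fin.Basic

/-!
# Finite chains and strictly increasing series

A finite chain containing `⊥` and `⊤` is the range of a unique `LTSeries` from `⊥` to `⊤`; adjacent elements
of the chain are consecutive terms of the series.
-/

set_option autoImplicit false
universe u

namespace K168.ChainSeries

variable {α : Type u} [PartialOrder α] [BoundedOrder α]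

theorem exists_ltSeries (C : Finset α) (hC : IsChain (fun a b : α => a ≤ b) (↑C : Set α))
    (hbot : ⊥ ∈ C) (htop : ⊤ ∈ C) :
    ∃ s : LTSeries α, s.head = ⊥ ∧ s.last = ⊤ ∧ ∀ a, a ∈ C ↔ ∃ i, s i = a := by
  classical
  let _ : DecidableLE α := Classical.decRel _
  let _ : LinearOrder (↑(↑C : Set α)) := hC.linearOrder
  have hfin : Fintype (↑(↑C : Set α)) := inferInstance
  have hne : Nonempty (↑(↑C : Set α)) := ⟨⟨⊥, hbot⟩⟩
  obtain ⟨n, hn⟩ : ∃ n, Fintype.card (↑(↑C : Set α)) = n + 1 :=
    ⟨Fintype.card (↑(↑C : Set α)) - 1, by have := Fintype.card_pos (α := (↑(↑C : Set α))); omega⟩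
  let e : Fin (n + 1) ≃o (↑(↑C : Set α)) := Fintype.orderIsoFinOfCardEq _ hn
  let s : LTSeries α := LTSeries.mk n (fun i => (e i).1) (fun i j hij => by
    have : e i < e j := e.strictMono hij
    exact this)
  have hmem : ∀ a, a ∈ C ↔ ∃ i, s i = a := by
    intro a
    constructor
    · intro ha
      exact ⟨e.symm ⟨a, ha⟩, congrArg Subtype.val (e.apply_symm_apply ⟨a, ha⟩)⟩
    · rintro ⟨i, rfl⟩
      exact (e i).2
  refine ⟨s, ?_, ?_, hmem⟩
  · obtain ⟨i, hi⟩ := (hmem ⊥).mp hbot
    refine le_antisymm ?_ bot_le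
    rw [← hi]
    exact s.monotone (Fin.zero_le i)
  · obtain ⟨i, hi⟩ := (hmem ⊤).mp htop
    refine le_antisymm le_top ?_
    rw [← hi]
    exact s.monotone (Fin.le_last i)

/-- Consecutive terms of a series are adjacent in its range. -/
theorem adj_of_series (s : LTSeries α) (i : Fin s.length) (j : Fin (s.length + 1)) :
    ¬ (s i.castSucc < s j ∧ s j < s i.succ) := by
  rintro ⟨h1, h2⟩
  have h3 := s.strictMono.lt_iff_lt.mp h1
  have h4 := s.strictMono.lt_iff_lt.mp h2
  rw [Fin.lt_def] at h3 h4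
  simp only [Fin.val_castSucc, Fin.val_succ] at h3 h4
  omega

/-- Adjacent elements of the range are consecutive terms. -/
theorem exists_of_adj (s : LTSeries α) {a b : α} (ha : ∃ i, s i = a) (hb : ∃ i, s i = b) (hab : a < b)
    (h : ∀ j, ¬ (a < s j ∧ s j < b)) : ∃ i : Fin s.length, s i.castSucc = a ∧ s i.succ = b := by
  obtain ⟨i, rfl⟩ := ha
  obtain ⟨j, rfl⟩ := hb
  have hij := s.strictMono.lt_iff_lt.mp hab
  rw [Fin.lt_def] at hij
  have hi : (i : ℕ) < s.length := by have := j.2; omega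
  refine ⟨⟨i, hi⟩, rfl, ?_⟩
  by_contra hne
  have h2 : (⟨i, hi⟩ : Fin s.length).succ < j := by
    rcases lt_trichotomy (⟨i, hi⟩ : Fin s.length).succ j with h3 | h3 | h3
    · exact h3
    · exact absurd (congrArg s h3) hne
    · rw [Fin.lt_def] at h3
      simp only [Fin.val_succ] at h3
      omega
  refine h (⟨i, hi⟩ : Fin s.length).succ ⟨s.strictMono ?_, s.strictMono h2⟩
  rw [Fin.lt_def]
  simp

end K168.ChainSeries
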