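import Groth.Agent.Coherent.K168.ChainSeries
import Groth.Agent.ShStab.K849.HilbFacts
import Groth.Agent.ShStab.K847.HilbBasic
import Groth.Agent.ShStab.K846.Rows2
import Groth.Agent.S10962
import Groth.Agent.Ega3B.ProjFrame
import Groth.Agent.VarietyB.EulerBinom
import Groth.Prelude.Def_W4c2simpsonmod1HP

/-!
# Harder-Narasimhan chains on projective space

* `exists_poly_int`: the Hilbert polynomial of a coherent module on projective space, all twists.
* `isHilbPoly_iff`: comparison with `ShStab.IsHilbPoly` for the polarisation `O(1)`.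
* `existsUnique_chain`: S14972 over any field.
-/

set_option autoImplicit false
universe u

open CategoryTheory CategoryTheory.Limits AlgebraicGeometry Polynomial

namespace K168.HNChain

open Groth.Agent Groth.Agent.VarietyB.EulerBinom Groth.Agent.Fga.PicMon

variable (k : Type u) [Field k] (n : ℕ)

/-- `choose` as a polynomial. -/
theorem choose_eval (j : ℕ) (t : ℤ) :
    ((Ring.choose t j : ℤ) : ℚ) = ((C ((j.factorial : ℚ)⁻¹) * descPochhammer ℚ j).eval (t : ℚ)) := by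
  have h1 : (j.factorial • Ring.choose t j : ℤ) = (descPochhammer ℤ j).eval t := by
    rw [← Ring.descPochhammer_eq_factorial_smul_choose, Polynomial.eval_eq_smeval]
  have h2 : (((descPochhammer ℤ j).eval t : ℤ) : ℚ) = (descPochhammer ℚ j).eval (t : ℚ) :=
    descPochhammer_eval_cast ℚ j t
  rw [eval_mul, eval_C, ← h2, ← h1]
  have : (j.factorial : ℚ) ≠ 0 := by positivity
  rw [nsmul_eq_mul, Int.cast_mul, Int.cast_natCast, ← mul_assoc, inv_mul_cancel₀ this, one_mul]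

/-- The Hilbert polynomial of a coherent module on projective space. -/
theorem exists_poly_int {F : (CohB1.ProjSpace n k).Modules} (hF : Coh.IsCoh F) :
    ∃ P : ℚ[X], ∀ m : ℤ, (Curv2.euler k (CohB1.ProjSpace n k)
      (CohB1.tensorMod F (Twist.twistProjSpace n k m)) : ℚ) = P.eval (m : ℚ) := by
  refine ⟨∑ j : Fin (n + 1), C (((VarietyB.EulerDiff.dl^[(j : ℕ)] (fun t => Curv2.euler k (CohB1.ProjSpace n k)
      (CohB1.tensorMod F (Twist.twistProjSpace n k t))) 0 : ℤ) : ℚ)) *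
      (C (((j : ℕ).factorial : ℚ)⁻¹) * descPochhammer ℚ j), fun m => ?_⟩
  rw [euler_newton k n hF _ (fun t => rfl) m, eval_finsetSum]
  push_cast
  refine Finset.sum_congr rfl fun j _ => ?_
  rw [eval_mul, ← choose_eval, eval_C]

theorem isHilbPoly_of_int {F : (CohB1.ProjSpace n k).Modules} {P : ℚ[X]}
    (h : ∀ m : ℤ, (Curv2.euler k (CohB1.ProjSpace n k)
      (CohB1.tensorMod F (Twist.twistProjSpace n k m)) : ℚ) = P.eval (m : ℚ)) :
    ShStab.IsHilbPoly k (CohB1.ProjSpace n k) (Twist.twistProjSpace n k 1) F P := by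
  intro m
  obtain ⟨e⟩ := Ega3B.ProjFrame.nonempty_twistProjSpace_iso (r := n) k m
  have h1 := h (m : ℤ)
  rw [Int.cast_natCast] at h1
  rw [← h1]
  congr 1
  obtain ⟨e'⟩ : Nonempty (ShStab.twist (CohB1.ProjSpace n k) (Twist.twistProjSpace n k 1) F m ≅
      CohB1.tensorMod F (Twist.twistProjSpace n k m)) := by
    rw [← mc_eq_iff]
    unfold ShStab.twist
    rw [mc_tensor, mc_tensor, mc_eq e]
  exact K847.HilbBasic.euler_congr k e'

theorem isHilbPoly_iff {F : (CohB1.ProjSpace n k).Modules} (hF : Coh.IsCoh F) {P : ℚ[X]} :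
    ShStab.IsHilbPoly k (CohB1.ProjSpace n k) (Twist.twistProjSpace n k 1) F P ↔
    ∀ m : ℤ, (Curv2.euler k (CohB1.ProjSpace n k)
      (CohB1.tensorMod F (Twist.twistProjSpace n k m)) : ℚ) = P.eval (m : ℚ) := by
  refine ⟨fun h => ?_, isHilbPoly_of_int k n⟩
  obtain ⟨Q, hQ⟩ := exists_poly_int k n hF
  rw [K846.Gies.unique h (isHilbPoly_of_int k n hQ)]
  exact hQ

section Red

variable {d : ℕ} {P Q : ℚ[X]}

theorem redLE_iff (hP : 0 < StabCat.alpha d P) (hQ : 0 < StabCat.alpha d Q) :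
    W4c2simpsonmod1.RedLE d P Q ↔ StabCat.RedLE d P Q := by
  have key : ∀ x : ℚ, P.eval x / W4c2simpsonmod1.rankOf d P ≤ Q.eval x / W4c2simpsonmod1.rankOf d Q ↔
      (StabCat.alpha d Q • P).eval x ≤ (StabCat.alpha d P • Q).eval x := by
    intro x
    change P.eval x / StabCat.alpha d P ≤ Q.eval x / StabCat.alpha d Q ↔ _
    rw [div_le_div_iff₀ hP hQ, eval_smul, eval_smul, smul_eq_mul, smul_eq_mul, mul_comm,
      mul_comm (Q.eval x)]
  constructor
  · rintro ⟨N, hN⟩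
    refine ⟨N.toNat, fun m hm => ?_⟩
    have h1 := hN (m : ℤ) (by omega)
    rw [key] at h1
    simpa using h1
  · rintro ⟨N, hN⟩
    refine ⟨N, fun m hm => ?_⟩
    obtain ⟨m, rfl⟩ := Int.eq_ofNat_of_zero_le (by omega : 0 ≤ m)
    rw [key]
    simpa using hN m (by omega)

theorem redLT_iff (hP : 0 < StabCat.alpha d P) (hQ : 0 < StabCat.alpha d Q) :
    W4c2simpsonmod1.RedLT d P Q ↔ StabCat.RedLT d P Q := by
  have key : ∀ x : ℚ, P.eval x / W4c2simpsonmod1.rankOf d P < Q.eval x / W4c2simpsonmod1.rankOf d Q ↔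
      (StabCat.alpha d Q • P).eval x < (StabCat.alpha d P • Q).eval x := by
    intro x
    change P.eval x / StabCat.alpha d P < Q.eval x / StabCat.alpha d Q ↔ _
    rw [div_lt_div_iff₀ hP hQ, eval_smul, eval_smul, smul_eq_mul, smul_eq_mul, mul_comm,
      mul_comm (Q.eval x)]
  constructor
  · rintro ⟨N, hN⟩
    refine ⟨N.toNat, fun m hm => ?_⟩
    have h1 := hN (m : ℤ) (by omega)
    rw [key] at h1
    simpa using h1
  · rintro ⟨N, hN⟩
    refine ⟨N, fun m hm => ?_⟩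
    obtain ⟨m, rfl⟩ := Int.eq_ofNat_of_zero_le (by omega : 0 ≤ m)
    rw [key]
    simpa using hN m (by omega)

end Red

section Main

variable {k n}
variable {d : ℕ} {E : (CohB1.ProjSpace n k).Modules}

/-- pure of dimension `d`, as in the row -/
def Pur (d : ℕ) (G : (CohB1.ProjSpace n k).Modules) : Prop :=
  topologicalKrullDim ↥(CohB1.support G) = (d : WithBot ℕ∞) ∧
    ∀ (G' : (CohB1.ProjSpace n k).Modules) (ι : G' ⟶ G), Mono ι → Coh.IsCoh G' → ¬ IsZero G' →
      topologicalKrullDim ↥(CohB1.support G') = (d : WithBot ℕ∞)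

/-- integral Hilbert polynomial, as in the row -/
def HPZ (G : (CohB1.ProjSpace n k).Modules) (φ : ℚ[X]) : Prop :=
  ∀ m : ℤ, (Curv2.euler k (CohB1.ProjSpace n k) (CohB1.tensorMod G (Twist.twistProjSpace n k m)) : ℚ) =
    φ.eval (m : ℚ)

/-- semistability inequality, as in the row -/
def SSZ (d : ℕ) (Q : (CohB1.ProjSpace n k).Modules) : Prop :=
  ∀ (G : (CohB1.ProjSpace n k).Modules) (ι : G ⟶ Q), Mono ι → Coh.IsCoh G → ¬ IsZero G →
    ∀ φ ψ : ℚ[X], HPZ Q φ → HPZ G ψ → W4c2simpsonmod1.RedLE d ψ φ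

theorem not_isZero_of_pur {G : (CohB1.ProjSpace n k).Modules} (h : Pur d G) : ¬ IsZero G := by
  intro h0
  have h1 := K847.HilbBasic.dim_support_isZero h0
  rw [h.1] at h1
  exact absurd h1 (by simp)

theorem pur_iff {G : (CohB1.ProjSpace n k).Modules} (hG : Coh.IsCoh G) :
    Pur d G ↔ ¬ IsZero G ∧ ShStab.IsPure (CohB1.ProjSpace n k) G d := by
  constructor
  · intro h
    exact ⟨not_isZero_of_pur h, h.2⟩
  · rintro ⟨h0, h⟩
    exact ⟨h G (𝟙 G) inferInstance hG h0, h⟩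

variable (H : K846.Gies.HilbFacts k (CohB1.ProjSpace n k) (Twist.twistProjSpace n k 1))

instance isLocallyNoetherian_proj : IsLocallyNoetherian (CohB1.ProjSpace n k) :=
  LocallyOfFiniteType.isLocallyNoetherian (CohB1.ProjSpace n k ↘ (Spec (CommRingCat.of k)))

include H in
theorem alpha_pos {G : (CohB1.ProjSpace n k).Modules} (hG : Coh.IsCoh G) (h : Pur d G)
    {P : ℚ[X]} (hP : HPZ G P) : 0 < StabCat.alpha d P := by
  have h0 := not_isZero_of_pur h
  have h1 := K846.Gies.alpha_pos_of_dim H hG h0 h.1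
  have h2 := isHilbPoly_of_int k n hP
  rw [K846.Gies.hv, K849.PolyOrd.alphaL_toPV, K846.Gies.hp_eq h2] at h1
  exact h1

include H in
theorem isSemistable_iff {Q : (CohB1.ProjSpace n k).Modules} (hQ : Coh.IsCoh Q) :
    ShStab.IsSemistable k (CohB1.ProjSpace n k) (Twist.twistProjSpace n k 1) Q d ↔
      Pur d Q ∧ SSZ d Q := by
  constructor
  · rintro ⟨-, h0, hp, hss⟩
    have hpur := (pur_iff hQ).mpr ⟨h0, hp⟩
    refine ⟨hpur, fun G ι hι hG hG0 φ ψ hφ hψ => ?_⟩
    have hGp : Pur d G := ⟨hp G ι hι hG hG0, fun G' ι' hι' hG' h' =>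
      hp G' (ι' ≫ ι) (mono_comp _ _) hG' h'⟩
    rw [redLE_iff (alpha_pos H hG hGp hψ) (alpha_pos H hQ hpur hφ)]
    by_cases hi : IsIso ι
    · have h1 : ψ = φ := by
        refine K846.Gies.unique (isHilbPoly_of_int k n hψ) ?_
        exact K847.HilbBasic.isHilbPoly_iso k (asIso ι).symm (isHilbPoly_of_int k n hφ)
      rw [h1]
      exact ⟨0, fun m _ => le_rfl⟩
    · exact hss G ι hι hG hG0 hi ψ φ (isHilbPoly_of_int k n hψ) (isHilbPoly_of_int k n hφ)
  · rintro ⟨hpur, hss⟩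
    refine ⟨hQ, not_isZero_of_pur hpur, hpur.2, fun G ι hι hG hG0 hi pG pQ hpG hpQ => ?_⟩
    have hGp : Pur d G := ⟨hpur.2 G ι hι hG hG0, fun G' ι' hι' hG' h' =>
      hpur.2 G' (ι' ≫ ι) (mono_comp _ _) hG' h'⟩
    have h1 := (isHilbPoly_iff k n hG).mp hpG
    have h2 := (isHilbPoly_iff k n hQ).mp hpQ
    rw [← redLE_iff (alpha_pos H hG hGp h1) (alpha_pos H hQ hpur h2)]
    exact hss G ι hι hG hG0 pQ pG h2 h1

/-- the condition of the row on a finite chain -/
def Cond (d : ℕ) (C : Finset (Subobject E)) : Prop :=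
  ⊥ ∈ C ∧ ⊤ ∈ C ∧ IsChain (fun A B : Subobject E => A ≤ B) (↑C : Set (Subobject E)) ∧
  (∀ A ∈ C, Coh.IsCoh (A : (CohB1.ProjSpace n k).Modules)) ∧
  (∀ A ∈ C, ∀ B ∈ C, ∀ hAB : A < B, (∀ D ∈ C, ¬ (A < D ∧ D < B)) →
    Pur d (cokernel (Subobject.ofLE A B hAB.le)) ∧ SSZ d (cokernel (Subobject.ofLE A B hAB.le))) ∧
  (∀ A ∈ C, ∀ B ∈ C, ∀ B' ∈ C, ∀ hAB : A < B, ∀ hBB : B < B',
    (∀ D ∈ C, ¬ (A < D ∧ D < B)) → (∀ D ∈ C, ¬ (B < D ∧ D < B')) →
    ∀ ψ ψ' : ℚ[X], HPZ (cokernel (Subobject.ofLE A B hAB.le)) ψ →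
      HPZ (cokernel (Subobject.ofLE B B' hBB.le)) ψ' → W4c2simpsonmod1.RedLT d ψ' ψ)

include H in
theorem cond_of_isHN (hE : Coh.IsCoh E) (hpure : Pur d E) (s : LTSeries (Subobject E))
    (hs : ShStab.IsHNFiltration k (CohB1.ProjSpace n k) (Twist.twistProjSpace n k 1) E d s)
    (C : Finset (Subobject E)) (hC : ∀ A, A ∈ C ↔ ∃ i, s i = A) : Cond d C := by
  have hhn := (K846.Rows2.isHN_iff H).mp hs
  have hok := K846.Gies.okd_of_pure H hE hpure.2
  have hfac : ∀ i, Coh.IsCoh (StabCat.factor s i) := fun i => (hs.2.2.1 i).1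
  refine ⟨(hC ⊥).mpr ⟨0, hs.1⟩, (hC ⊤).mpr ⟨Fin.last _, hs.2.1⟩, ?_, ?_, ?_, ?_⟩
  · intro A hA B hB _
    obtain ⟨i, rfl⟩ := (hC A).mp hA
    obtain ⟨j, rfl⟩ := (hC B).mp hB
    rcases le_total i j with h | h
    · exact Or.inl (s.monotone h)
    · exact Or.inr (s.monotone h)
  · intro A hA
    obtain ⟨i, rfl⟩ := (hC A).mp hA
    exact (K849.Abs.ok_term (K846.Gies.setup H d) hok s hs.1 (fun i => (hhn.2.2.1 i).1) i).1
  · intro A hA B hB hAB hadj
    obtain ⟨i, rfl, rfl⟩ := ChainSeries.exists_of_adj s ((hC A).mp hA) ((hC B).mp hB) hAB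
      (fun j => hadj _ ((hC _).mpr ⟨j, rfl⟩))
    exact (isSemistable_iff H (hfac i)).mp (hs.2.2.1 i)
  · intro A hA B hB B' hB' hAB hBB hadj hadj' ψ ψ' hψ hψ'
    obtain ⟨i, rfl, rfl⟩ := ChainSeries.exists_of_adj s ((hC A).mp hA) ((hC B).mp hB) hAB
      (fun j => hadj _ ((hC _).mpr ⟨j, rfl⟩))
    obtain ⟨j, hj, rfl⟩ := ChainSeries.exists_of_adj s ⟨_, rfl⟩ ((hC B').mp hB') hBB
      (fun j => hadj' _ ((hC _).mpr ⟨j, rfl⟩))
    have hij : j.castSucc = i.succ := s.strictMono.injective hj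
    have hij' : i.val + 1 = j.val := by
      have := congrArg Fin.val hij
      simp only [Fin.val_castSucc, Fin.val_succ] at this
      omega
    have hψ'' : HPZ (StabCat.factor s j) ψ' := by
      have : ∀ (A : Subobject E) (hA : s j.castSucc = A) (h1 : A < s j.succ),
          HPZ (cokernel (Subobject.ofLE A (s j.succ) h1.le)) ψ' → HPZ (StabCat.factor s j) ψ' := by
        rintro _ rfl h1 h2
        exact h2
      exact this _ hj hBB hψ'
    have h1 := hs.2.2.2 i j hij' ψ ψ' (isHilbPoly_of_int k n hψ) (isHilbPoly_of_int k n hψ'')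
    have h2 := ((isSemistable_iff H (hfac i)).mp (hs.2.2.1 i)).1
    have h3 := ((isSemistable_iff H (hfac j)).mp (hs.2.2.1 j)).1
    exact (redLT_iff (alpha_pos H (hfac j) h3 hψ'') (alpha_pos H (hfac i) h2 hψ)).mpr h1

include H in
theorem isHN_of_cond (s : LTSeries (Subobject E)) (h0 : s.head = ⊥) (h1 : s.last = ⊤)
    (C : Finset (Subobject E)) (hC : ∀ A, A ∈ C ↔ ∃ i, s i = A) (hcond : Cond d C) :
    ShStab.IsHNFiltration k (CohB1.ProjSpace n k) (Twist.twistProjSpace n k 1) E d s := by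
  obtain ⟨-, -, -, hcoh, hss, hlt⟩ := hcond
  have hmem : ∀ i, s i ∈ C := fun i => (hC _).mpr ⟨i, rfl⟩
  have hadj : ∀ i : Fin s.length, ∀ D ∈ C, ¬ (s i.castSucc < D ∧ D < s i.succ) := by
    intro i D hD
    obtain ⟨j, rfl⟩ := (hC D).mp hD
    exact ChainSeries.adj_of_series s i j
  have hfac : ∀ i, Coh.IsCoh (StabCat.factor s i) := fun i =>
    Sga67.CohBasic.isCoh_cokernel _ (hcoh _ (hmem _)).1 (hcoh _ (hmem _))
  have hS : ∀ i, Pur d (StabCat.factor s i) ∧ SSZ d (StabCat.factor s i) := fun i =>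
    hss _ (hmem i.castSucc) _ (hmem i.succ) (s.step i) (hadj i)
  refine ⟨h0, h1, fun i => (isSemistable_iff H (hfac i)).mpr (hS i), fun i j hij p q hp hq => ?_⟩
  have hij' : s j.castSucc = s i.succ := congrArg s (Fin.ext (by simpa using hij.symm))
  have hp' := (isHilbPoly_iff k n (hfac i)).mp hp
  have hq' := (isHilbPoly_iff k n (hfac j)).mp hq
  have hst : s i.succ < s j.succ := hij' ▸ s.step j
  have hadj' : ∀ D ∈ C, ¬ (s i.succ < D ∧ D < s j.succ) := hij' ▸ hadj j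
  have hq'' : HPZ (cokernel (Subobject.ofLE (s i.succ) (s j.succ) hst.le)) q := by
    have : ∀ (A : Subobject E) (hA : s j.castSucc = A) (h1 : A < s j.succ),
        HPZ (cokernel (Subobject.ofLE A (s j.succ) h1.le)) q := by
      rintro _ rfl h1
      exact hq'
    exact this _ hij' hst
  have h2 := hlt _ (hmem i.castSucc) _ (hmem i.succ) _ (hmem j.succ) (s.step i) hst (hadj i) hadj'
    p q hp' hq''
  exact (redLT_iff (alpha_pos H (hfac j) (hS j).1 hq') (alpha_pos H (hfac i) (hS i).1 hp')).mp h2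

end Main

theorem hilbFacts : K846.Gies.HilbFacts k (CohB1.ProjSpace n k) (Twist.twistProjSpace n k 1) :=
  K849.HilbFacts.gies k (CohB1.ProjSpace n k) (S10962.isAmple_of_pos k n one_pos)

theorem existsUnique_chain {d : ℕ} {E : (CohB1.ProjSpace n k).Modules} (hE : Coh.IsCoh E)
    (hpure : Pur d E) : ∃! C : Finset (Subobject E), Cond d C := by
  classical
  have H := hilbFacts k n
  obtain ⟨s, hs, huniq⟩ := K846.Rows2.existsUnique_hn H hE hpure.2
  have hC : ∀ A, A ∈ Finset.univ.image (fun i => s i) ↔ ∃ i, s i = A := by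
    intro A
    simp
  refine ⟨Finset.univ.image (fun i => s i), cond_of_isHN H hE hpure s hs _ hC, fun C' hC' => ?_⟩
  obtain ⟨s', h0, h1, hmem⟩ := ChainSeries.exists_ltSeries C' hC'.2.2.1 hC'.1 hC'.2.1
  have h2 := huniq s' (isHN_of_cond H s' h0 h1 C' hmem hC')
  subst h2
  ext A
  rw [hmem, hC]

end K168.HNChain
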